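import Mathlib.RingTheory.Spectrum.Prime.Topology
import Mathlib.RingTheory.Spectrum.Prime.RingHom
import Mathlib.Topology.Connected.Clopen
import Mathlib.Tactic.LinearCombination
import Mathlib.Tactic.Ring

/-! Connected components of prime spectra via idempotents. -/

namespace Groth.Agent.IdemSpec

universe u

variable {R : Type u} [CommRing R]

/-- Idempotents lying in `p`. -/
def idemIn (p : PrimeSpectrum R) : Set R := {e : R | IsIdempotentElem e ∧ e ∈ p.asIdeal}

theorem exists_absorbing {E : Set R} (h0 : (0 : R) ∈ E)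
    (hjoin : ∀ e ∈ E, ∀ f ∈ E, e + f - e * f ∈ E) (hid : ∀ e ∈ E, IsIdempotentElem e)
    {r : R} (hr : r ∈ Ideal.span E) : ∃ g ∈ E, r * g = r := by
  induction hr using Submodule.span_induction with
  | mem x hx => exact ⟨x, hx, hid x hx⟩
  | zero => exact ⟨0, h0, by simp⟩
  | add x y _ _ hx hy =>
    obtain ⟨g, hg, hxg⟩ := hx
    obtain ⟨g', hg', hyg⟩ := hy
    exact ⟨_, hjoin g hg g' hg', by linear_combination (1 - g') * hxg + (1 - g) * hyg⟩
  | smul a x _ hx =>
    obtain ⟨g, hg, hxg⟩ := hx
    exact ⟨g, hg, by rw [smul_eq_mul]; linear_combination a * hxg⟩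

theorem exists_absorbing_idemIn (p : PrimeSpectrum R) {r : R} (hr : r ∈ Ideal.span (idemIn p)) :
    ∃ g ∈ idemIn p, r * g = r :=
  exists_absorbing (E := idemIn p) ⟨IsIdempotentElem.zero, p.asIdeal.zero_mem⟩
    (fun e he f hf => ⟨by
      have h1 : e * e = e := he.1
      have h2 : f * f = f := hf.1
      show (e + f - e * f) * (e + f - e * f) = e + f - e * f
      linear_combination (1 - 2 * f + f * f) * h1 + (1 - e) * h2,
      p.asIdeal.sub_mem (p.asIdeal.add_mem he.2 hf.2) (p.asIdeal.mul_mem_left _ hf.2)⟩)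
    (fun _ he => he.1) hr

theorem mem_or_one_sub_mem (p : PrimeSpectrum R) {e : R} (he : IsIdempotentElem e) :
    e ∈ p.asIdeal ∨ 1 - e ∈ p.asIdeal := by
  refine p.isPrime.mem_or_mem ?_
  rw [mul_sub, mul_one, he.eq, sub_self]
  exact p.asIdeal.zero_mem

theorem connectedComponent_eq (p : PrimeSpectrum R) :
    connectedComponent p = PrimeSpectrum.zeroLocus (idemIn p) := by
  refine subset_antisymm ?_ ?_
  · intro x hx e he
    have hc : IsClopen (PrimeSpectrum.zeroLocus {e}) := PrimeSpectrum.isClopen_iff_zeroLocus.2 ⟨e, he.1, rfl⟩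
    have hp : p ∈ PrimeSpectrum.zeroLocus {e} := by simpa using he.2
    simpa using hc.connectedComponent_subset hp hx
  · have hp : p ∈ PrimeSpectrum.zeroLocus (idemIn p) := fun e he => he.2
    refine IsPreconnected.subset_connectedComponent ?_ hp
    let I := Ideal.span (idemIn p)
    have hrange : Set.range (PrimeSpectrum.comap (Ideal.Quotient.mk I)) = PrimeSpectrum.zeroLocus (idemIn p) := by
      rw [range_comap_of_surjective _ _ Ideal.Quotient.mk_surjective, Ideal.mk_ker,
        PrimeSpectrum.zeroLocus_span]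
    rw [← hrange]
    haveI : PreconnectedSpace (PrimeSpectrum (R ⧸ I)) := by
      refine preconnectedSpace_iff_clopen.2 fun s hs => ?_
      obtain ⟨e, he, rfl⟩ := PrimeSpectrum.isClopen_iff.1 hs
      obtain ⟨e, rfl⟩ := Ideal.Quotient.mk_surjective e
      have hmem : e * e - e ∈ I := by
        rw [← Ideal.Quotient.eq_zero_iff_mem, map_sub, map_mul, he.eq, sub_self]
      obtain ⟨g, hg, heg⟩ := exists_absorbing_idemIn p hmem
      have hid : IsIdempotentElem (e * (1 - g)) := by
        show e * (1 - g) * (e * (1 - g)) = e * (1 - g)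
        have h1 : g * g = g := hg.1
        linear_combination (-1 : R) * heg + e * e * h1
      have hgI : Ideal.Quotient.mk I g = 0 := Ideal.Quotient.eq_zero_iff_mem.2 (Ideal.subset_span hg)
      have hval : Ideal.Quotient.mk I (e * (1 - g)) = Ideal.Quotient.mk I e := by simp [hgI]
      rcases mem_or_one_sub_mem p hid with h | h
      · left
        have : Ideal.Quotient.mk I e = 0 := by
          rw [← hval, Ideal.Quotient.eq_zero_iff_mem]; exact Ideal.subset_span ⟨hid, h⟩
        simp [this]
      · right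
        have : Ideal.Quotient.mk I e = 1 := by
          rw [← hval, ← map_one (Ideal.Quotient.mk I), eq_comm, Ideal.Quotient.eq]
          exact Ideal.subset_span ⟨hid.one_sub, h⟩
        simp [this]
    exact isPreconnected_range (PrimeSpectrum.continuous_comap _)

theorem span_eq_of_zeroLocus_eq (E E' : Set R) (hE : ∀ e ∈ E, IsIdempotentElem e)
    (hE' : ∀ e ∈ E', IsIdempotentElem e) (h : PrimeSpectrum.zeroLocus E = PrimeSpectrum.zeroLocus E') :
    Ideal.span E = Ideal.span E' := by
  have key : ∀ A B : Set R, (∀ e ∈ A, IsIdempotentElem e) → PrimeSpectrum.zeroLocus A = PrimeSpectrum.zeroLocus B →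
      Ideal.span A ≤ Ideal.span B := by
    intro A B hA hAB
    refine Ideal.span_le.2 fun e he => ?_
    have : e ∈ (Ideal.span B).radical := by
      rw [← PrimeSpectrum.vanishingIdeal_zeroLocus_eq_radical, PrimeSpectrum.zeroLocus_span, ← hAB,
        PrimeSpectrum.mem_vanishingIdeal]
      exact fun x hx => hx he
    obtain ⟨n, hn⟩ := this
    rcases n with _ | n
    · rw [pow_zero] at hn
      exact (Ideal.eq_top_iff_one _).2 hn ▸ Submodule.mem_top
    · rwa [(hA e he).pow_succ_eq n] at hn
  exact le_antisymm (key E E' hE h) (key E' E hE' h.symm)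

end Groth.Agent.IdemSpec
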